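import Cfsg.Agent.Lib.ZNType.Fusion
import Cfsg.Agent.Lib.ZNStructure.Shape
import Cfsg.Agent.Lib.InvChar.InvolutionCores
import Cfsg.Agent.Lib.CoreKill.Applications
import Cfsg.Agent.Lib.Involutions.StronglyEmbedded

/-!
Groups with one class of involutions, constrained centralizers of involutions, and the centralizer of a
central involution of a Sylow 2-subgroup normalizing it: a strongly embedded subgroup or characteristic 2 type.
-/

set_option autoImplicit false

open Cfsg Subgroup CfsgLib.InvChar.InvolutionCores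

namespace CfsgLib.ZNType

universe u

variable {K : Type u} [Group K] [Finite K]

theorem cc_eq (a : K) : cc a = Cfsg.centralizerPPrimeCore 2 a := rfl

/-- An involution normalizing a Sylow 2-subgroup lies in it. -/
theorem mem_sylow_of_normalizes (R : Sylow 2 K) {v : K} (hv : orderOf v = 2)
    (hn : v ∈ normalizer ((R : Subgroup K) : Set K)) : v ∈ (R : Subgroup K) := by
  haveI : Fact (Nat.Prime 2) := ⟨Nat.prime_two⟩
  have h2 : IsPGroup 2 (zpowers v) := IsPGroup.of_card (n := 1) (by rw [Nat.card_zpowers, hv, pow_one])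
  have h3 := h2.inf_normalizer_sylow R
  have h4 : zpowers v ⊓ (R : Subgroup K) = zpowers v := by
    rw [← h3]; exact inf_eq_left.2 (zpowers_le.2 hn)
  exact (h4.symm ▸ mem_zpowers v : v ∈ zpowers v ⊓ (R : Subgroup K)).2

/-- Commuting involutions have the same core. -/
theorem cc_le_of_commute (hC2 : CfsgLib.CoreKill.ConstrainedCentralizers K)
    (hone : ∀ a b : K, orderOf a = 2 → orderOf b = 2 → IsConj a b) {R : Sylow 2 K} {z : K}
    (hz : orderOf z = 2) (hzc : ∀ r ∈ (R : Subgroup K), r * z = z * r)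
    (hC : centralizer ({z} : Set K) ≤ normalizer ((R : Subgroup K) : Set K))
    {u v : K} (hu : orderOf u = 2) (hv : orderOf v = 2) (huv : Commute u v) : cc u ≤ cc v := by
  intro y hy
  obtain ⟨g, rfl⟩ := isConj_iff.1 (hone z u hz hu)
  set v' := g⁻¹ * v * g with hv'
  set y' := g⁻¹ * y * g with hy'
  have hy'm : y' ∈ cc z := by
    have := cc_conj g⁻¹ hy
    simpa [hy', mul_assoc] using this
  have hv'o : orderOf v' = 2 := by
    rw [hv', show g⁻¹ * v * g = g⁻¹ * v * (g⁻¹)⁻¹ by group, ord_conj, hv]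
  have hv'z : Commute z v' := by
    have := huv.map (MulAut.conj g⁻¹).toMonoidHom
    simpa [hv', mul_assoc] using this
  have hv'R : v' ∈ (R : Subgroup K) := mem_sylow_of_normalizes R hv'o
    (hC (mem_centralizer_singleton_iff.2 hv'z.eq.symm))
  -- the core centralizes the Sylow subgroup
  have hcomm : v' * y' * v'⁻¹ * y'⁻¹ = 1 := by
    have h1 : v' * y' * v'⁻¹ * y'⁻¹ ∈ cc z :=
      mul_mem (conj_mem_cc (hzc v' hv'R) hy'm) (inv_mem hy'm)
    have h2 : v' * y' * v'⁻¹ * y'⁻¹ ∈ (R : Subgroup K) := by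
      have hn := hC (mem_centralizer_singleton_iff.2 (commute_of_mem_cc hy'm).eq)
      rw [show v' * y' * v'⁻¹ * y'⁻¹ = v' * (y' * v'⁻¹ * y'⁻¹) by group]
      exact mul_mem hv'R ((mem_normalizer_iff.1 hn _).1 (inv_mem hv'R))
    obtain ⟨k, hk⟩ := R.2 ⟨_, h2⟩
    refine CfsgLib.ZNStructure.eq_one_of_two_pow_odd (pow_orderOf_eq_one _) (odd_orderOf_cc h1)
      (k := k) ?_
    simpa using congrArg Subtype.val hk
  have hyv : Commute y v := by
    have hc : v' * y' = y' * v' := mul_inv_eq_iff_eq_mul.1 (mul_inv_eq_one.1 hcomm)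
    have hh := (show Commute v' y' from hc).map (MulAut.conj g).toMonoidHom
    have e1 : (MulAut.conj g).toMonoidHom v' = v := by simp [hv', mul_assoc]
    have e2 : (MulAut.conj g).toMonoidHom y' = y := by simp [hy', mul_assoc]
    rw [e1, e2] at hh
    exact hh.symm
  exact balance (hC2 v hv) hu huv.symm hy hyv

/-- A strongly embedded subgroup or characteristic 2 type. -/
theorem stronglyEmbedded_or_charTwo (hO : Cfsg.oddCore K = ⊥)
    (hC2 : CfsgLib.CoreKill.ConstrainedCentralizers K)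
    (hone : ∀ a b : K, orderOf a = 2 → orderOf b = 2 → IsConj a b) {R : Sylow 2 K} {z : K}
    (hzR : z ∈ (R : Subgroup K)) (hz : orderOf z = 2) (hzc : ∀ r ∈ (R : Subgroup K), r * z = z * r)
    (hC : centralizer ({z} : Set K) ≤ normalizer ((R : Subgroup K) : Set K)) :
    (∃ M : Subgroup K, Cfsg.IsStronglyEmbedded M) ∨ Cfsg.IsCharacteristicTwoType K := by
  classical
  haveI : Fact (Nat.Prime 2) := ⟨Nat.prime_two⟩
  have heven : Even (Nat.card K) := even_iff_two_dvd.2 (hz ▸ orderOf_dvd_natCard z)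
  have eqv : ∀ {u v : K}, orderOf u = 2 → orderOf v = 2 → Commute u v → cc u = cc v :=
    fun hu hv huv => le_antisymm (cc_le_of_commute hC2 hone hz hzc hC hu hv huv)
      (cc_le_of_commute hC2 hone hz hzc hC hv hu huv.symm)
  set W := cc z with hW
  by_cases hW1 : W = ⊥
  · refine Or.inr (CfsgLib.CoreKill.characteristicTwoType heven hC2 fun t ht => ?_)
    obtain ⟨g, rfl⟩ := isConj_iff.1 (hone z t hz ht)
    rw [← cc_eq, eq_bot_iff]
    intro x hx
    have h1 : g⁻¹ * x * g ∈ W := by
      have := cc_conj g⁻¹ hx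
      simpa [hW, mul_assoc] using this
    rw [hW1, Subgroup.mem_bot] at h1
    rw [Subgroup.mem_bot]
    calc x = g * (g⁻¹ * x * g) * g⁻¹ := by group
      _ = 1 := by rw [h1]; group
  refine Or.inl ⟨normalizer (W : Set K), ?_⟩
  set M := normalizer (W : Set K) with hM
  have hCz : centralizer ({z} : Set K) ≤ M := fun g hg =>
    CfsgLib.Coprime.mem_normalizer_of_forall_conj fun x hx =>
      conj_mem_cc (mem_centralizer_singleton_iff.1 hg) hx
  have hRM : (R : Subgroup K) ≤ M := fun r hr =>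
    hCz (mem_centralizer_singleton_iff.2 (hzc r hr))
  have hne : M ≠ ⊤ := by
    intro e
    haveI : W.Normal := normalizer_eq_top_iff.1 e
    refine hW1 (le_bot_iff.1 (hO ▸ CfsgLib.PCore.le_pPrimeCore inferInstance ?_))
    exact Nat.coprime_comm.1 ((Nat.prime_two.coprime_iff_not_dvd).2 fun h =>
      Nat.not_even_iff_odd.2 (odd_card_cc z) (even_iff_two_dvd.2 h))
  have hMe : Even (Nat.card M) := even_iff_two_dvd.2
    (hz ▸ Subgroup.orderOf_coe (⟨z, hRM hzR⟩ : M) ▸ orderOf_dvd_natCard (⟨z, hRM hzR⟩ : M))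
  have hccM : ∀ u ∈ M, orderOf u = 2 → cc u = W := by
    intro u hu huo
    obtain ⟨P, hPM, huP⟩ := CfsgLib.CentralSylow.exists_sylow_le_of hRM
      (IsPGroup.of_card (n := 1) (by rw [Nat.card_zpowers, huo, pow_one]) : IsPGroup 2 (zpowers u))
      (zpowers_le.2 hu)
    obtain ⟨m, hm, rfl⟩ := CfsgLib.CentralSylow.exists_smul_eq_in hRM hPM
    have hu' : m⁻¹ * u * m ∈ (R : Subgroup K) :=
      CfsgLib.CentralSylow.mem_smul_iff.1 (huP (mem_zpowers u))
    have hu'o : orderOf (m⁻¹ * u * m) = 2 := by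
      rw [show m⁻¹ * u * m = m⁻¹ * u * (m⁻¹)⁻¹ by group, ord_conj, huo]
    have e : cc (m⁻¹ * u * m) = W := (eqv hz hu'o (hzc _ hu').symm).symm
    ext x
    constructor
    · intro hx
      have h1 := cc_conj m⁻¹ hx
      rw [inv_inv, e] at h1
      have h2 := (mem_normalizer_iff.1 hm _).1 h1
      simpa [mul_assoc] using h2
    · intro hx
      have h1 : m⁻¹ * x * m ∈ cc (m⁻¹ * u * m) := by
        rw [e]; exact (mem_normalizer_iff''.1 hm x).1 hx
      have h2 := cc_conj m h1
      simpa [mul_assoc] using h2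
  refine (CfsgLib.Involutions.isStronglyEmbedded_iff_fusion hne hMe).2 ⟨fun t ht hto g hg => ?_,
    fun t ht s hs hto hso hc => ?_⟩
  · refine CfsgLib.Coprime.mem_normalizer_of_forall_conj fun x hx => ?_
    rw [← hccM t ht hto] at hx ⊢
    exact conj_mem_cc (mem_centralizer_singleton_iff.1 hg) hx
  · obtain ⟨g, hg⟩ := isConj_iff.1 hc
    refine ⟨g, CfsgLib.Coprime.mem_normalizer_of_forall_conj fun x hx => ?_, hg⟩
    rw [← hccM t ht hto] at hx
    have := cc_conj g hx
    rwa [hg, hccM s hs hso] at this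

end CfsgLib.ZNType
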