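import Cfsg.Agent.Lib.RankTwoTypes.Fusion
import Cfsg.Agent.Lib.TwoGroups.SemidihedralCases
import Cfsg.Agent.Lib.TwoGroups.WreathedSmallV
import Cfsg.Agent.Lib.TwoGroups.DihedralFusion
import Cfsg.Agent.Lib.Involutions.Fusion
import Cfsg.Agent.Lib.InvChar.HermNoSymThree
import Cfsg.Agent.Lib.InvChar.SylowThree
import Cfsg.Agent.Lib.CentralSylow.Basic
import Cfsg.Agent.Lib.GWCons.QDNormalSL
import Cfsg.Agent.Lib.CoreKill.NoIndexTwo
import Cfsg.Agent.S1238

/-!
One class of involutions in groups of 2-rank at most 2 without subgroups of index 2 or isolated involutions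
in which the centralizer of a central involution of a Sylow 2-subgroup normalizes that subgroup.
-/

set_option autoImplicit false

open Cfsg Subgroup

namespace CfsgLib.ZNType

variable {K : Type*} [Group K] [Finite K] {R : Sylow 2 K}

theorem ord_conj (g u : K) : orderOf (g * u * g⁻¹) = orderOf u :=
  orderOf_injective (MulAut.conj g).toMonoidHom (MulAut.conj g).injective u

theorem sq_one {u : K} (hu : orderOf u = 2) : u * u = 1 := by
  rw [← pow_two, ← hu, pow_orderOf_eq_one]

theorem mem_of_commute {J g : K} (h : g * J * g⁻¹ = J) : g ∈ centralizer ({J} : Set K) :=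
  mem_centralizer_singleton_iff.2 (mul_inv_eq_iff_eq_mul.1 h)

/-- A normal complement of a nontrivial Sylow 2-subgroup gives a subgroup of index 2. -/
theorem exists_index_two_of_complement (h : Cfsg.HasNormalPComplement 2 K) (hR : (R : Subgroup K) ≠ ⊥) :
    ∃ M : Subgroup K, M.index = 2 := by
  haveI : Fact (Nat.Prime 2) := ⟨Nat.prime_two⟩
  obtain ⟨P, N, hN, hc⟩ := h
  haveI := hN
  have hPc : Nat.card (P : Subgroup K) = Nat.card (R : Subgroup K) := Nat.card_congr (P.equiv R).toEquiv
  have hi : N.index = Nat.card (P : Subgroup K) := hc.symm.index_eq_card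
  obtain ⟨j, hj⟩ := IsPGroup.iff_card.1 P.2
  obtain ⟨M, -, hM⟩ := CfsgLib.GWCons.QDNormalSL.exists_index_two N (fun e => hR (by
      rw [e, Subgroup.index_top] at hi
      exact Subgroup.card_eq_one.1 (hPc ▸ hi.symm)))
    (IsPGroup.of_card (n := j) (by rw [← Subgroup.index_eq_card, hi, hj]))
  exact ⟨M, hM⟩

open CfsgLib.TwoGroups.SD CfsgLib.TwoGroups.SDF in
/-- No semidihedral Sylow subgroup. -/
theorem not_semidihedral (hR : Cfsg.IsQuasiDihedral (R : Subgroup K))
    (hidx : ∀ M : Subgroup K, M.index ≠ 2)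
    (hC : ∀ J : (R : Subgroup K), J ∈ center (R : Subgroup K) → orderOf J = 2 →
      centralizer ({(J : K)} : Set K) ≤ normalizer ((R : Subgroup K) : Set K)) : False := by
  haveI : Fact (Nat.Prime 2) := ⟨Nat.prime_two⟩
  obtain ⟨r, x, y, h⟩ := exists_sd hR
  by_cases hI : IsConj ((x ^ (2 * r : ℤ) : (R : Subgroup K)) : K)
      ((x ^ (1 : ℤ) * y : (R : Subgroup K)) : K)
  · obtain ⟨g, hg⟩ := isConj_iff.1 hI
    set J : (R : Subgroup K) := x ^ (4 * r : ℤ) with hJ
    have hJo : orderOf J = 2 := (orderOf_zpow_eq_two h).mpr rfl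
    have hJc : J ∈ center (R : Subgroup K) := by
      rw [center_eq h]; exact mem_zpowers _
    have e1 : (x ^ (2 * r : ℤ)) ^ 2 = J := by
      rw [hJ, ← zpow_natCast, ← zpow_mul]; congr 1; push_cast; ring
    have e2 : (x ^ (1 : ℤ) * y) ^ 2 = J := by rw [hJ, xy_sq h, mul_one]
    have hgJ : g * (J : K) * g⁻¹ = J := by
      conv_lhs => rw [← e1, Subgroup.coe_pow, ← _root_.conj_pow, hg, ← Subgroup.coe_pow, e2]
    have hgn := hC J hJc hJo (mem_of_commute hgJ)
    have hs : g * ((x ^ (r : ℤ) : (R : Subgroup K)) : K) * g⁻¹ ∈ (R : Subgroup K) :=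
      (mem_normalizer_iff.1 hgn _).1 (Subtype.prop _)
    have hsq : (⟨_, hs⟩ : (R : Subgroup K)) ^ 2 = x ^ (1 : ℤ) * y := by
      apply Subtype.ext
      rw [Subgroup.coe_pow, ← hg]
      show (g * ((x ^ (r : ℤ) : (R : Subgroup K)) : K) * g⁻¹) ^ 2 = _
      rw [_root_.conj_pow, ← Subgroup.coe_pow, ← zpow_natCast, ← zpow_mul]
      congr 4
      push_cast; ring
    obtain ⟨k, e | e⟩ := h.gen (⟨_, hs⟩ : (R : Subgroup K))
    · rw [e, ← zpow_natCast, ← zpow_mul] at hsq
      exact not_mem_y h _ _ hsq.symm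
    · rw [e, xy_sq h] at hsq
      exact not_mem_y h _ _ hsq.symm
  · obtain ⟨M, -, hM, -⟩ := exists_dih_normal h hI
    exact hidx M hM

open CfsgLib.TwoGroups.WR CfsgLib.TwoGroups.WRC CfsgLib.TwoGroups.WRF in
/-- No wreathed Sylow subgroup. -/
theorem not_wreathed (hR : Cfsg.IsWreathed (R : Subgroup K))
    (hidx : ∀ M : Subgroup K, M.index ≠ 2)
    (hC : ∀ J : (R : Subgroup K), J ∈ center (R : Subgroup K) → orderOf J = 2 →
      centralizer ({(J : K)} : Set K) ≤ normalizer ((R : Subgroup K) : Set K)) : False := by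
  haveI : Fact (Nat.Prime 2) := ⟨Nat.prime_two⟩
  obtain ⟨n, x, y, z, h⟩ := exists_wr hR
  rcases v_index h with ⟨hv, -⟩ | ⟨hv, -⟩
  · rcases u_index h with ⟨hu, -⟩ | ⟨hu, -⟩
    · have hne : (R : Subgroup K) ≠ ⊥ := fun e => by
        have h1 := orderOf_jE h
        have h2 : ((jE h : (R : Subgroup K)) : K) ∈ (⊥ : Subgroup K) := e ▸ Subtype.prop _
        rw [Subgroup.mem_bot.1 h2, orderOf_one] at h1
        omega
      obtain ⟨M, hM⟩ := exists_index_two_of_complement (complement_case h hu hv).1 hne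
      exact hidx M hM
    · obtain ⟨⟨M, -, hM, -⟩, -⟩ := abelian_case h hu hv
      exact hidx M hM
  · obtain ⟨g, -, -, hfix, ⟨a, ha⟩, -⟩ := v_data h hv
    have hgn := hC (jE h) (jE_central h) (by rw [← Subgroup.orderOf_coe]; exact orderOf_jE h)
      (mem_of_commute (hfix _ (jE_central h)))
    set w : (R : Subgroup K) := el x y (2 ^ (n - 2)) 0 with hw
    have hw2 : w ^ 2 = eE h := by
      rw [hw, el_pow h, eE]
      congr 1
      · rw [show n - 1 = n - 2 + 1 by have := h.two_le; omega, pow_succ]; norm_num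
    have hs : g * (w : K) * g⁻¹ ∈ (R : Subgroup K) := (mem_normalizer_iff.1 hgn _).1 w.2
    have hsq : (⟨_, hs⟩ : (R : Subgroup K)) ^ 2 = el x y a (-a) * z := by
      apply Subtype.ext
      rw [Subgroup.coe_pow, ← ha]
      show (g * (w : K) * g⁻¹) ^ 2 = _
      rw [_root_.conj_pow, ← Subgroup.coe_pow, hw2]
    obtain ⟨c, d, e | e⟩ := h.gen (⟨_, hs⟩ : (R : Subgroup K))
    · rw [e, el_pow h] at hsq
      refine h.ne (c * (2 : ℕ) + -a) (d * (2 : ℕ) + a) ?_
      rw [← el_mul h, hsq]
      have : el x y (-a) a * (el x y a (-a) * z) = z := by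
        rw [← mul_assoc, el_mul h, neg_add_cancel, add_neg_cancel, el_zero, one_mul]
      calc z = el x y (-a) a * (el x y a (-a) * z) := this.symm
        _ = _ := by
          rw [← hsq, el_mul h, el_mul h]; congr 1 <;> ring
    · rw [e, el_z_sq h] at hsq
      refine h.ne (c + d + -a) (c + d + a) ?_
      calc z = el x y (-a) a * (el x y a (-a) * z) := by
            rw [← mul_assoc, el_mul h, neg_add_cancel, add_neg_cancel, el_zero, one_mul]
        _ = _ := by rw [← hsq, el_mul h]; congr 1 <;> ring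

/-- The rank bound on a product of three commuting involutions. -/
theorem mem_pair_of_rank_two (h2 : Cfsg.PRankLE 2 2 K) {a b c : K} (ha : a * a = 1) (hb : b * b = 1)
    (hc : c * c = 1) (ha1 : a ≠ 1) (hb1 : b ≠ 1) (hab : a ≠ b) (cab : a * b = b * a)
    (cac : a * c = c * a) (cbc : b * c = c * b) : c = 1 ∨ c = a ∨ c = b ∨ c = a * b := by
  classical
  have e1 := CfsgLib.SignalizerConn42.elemAb_zpowers (p := 2) (a := a) (by rw [pow_two]; exact ha)
  have e2 := CfsgLib.SignalizerConn42.elemAb_zpowers (p := 2) (a := b) (by rw [pow_two]; exact hb)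
  have e3 := CfsgLib.SignalizerConn42.elemAb_zpowers (p := 2) (a := c) (by rw [pow_two]; exact hc)
  have hz : ∀ {u v : K}, u * v = v * u → ∀ i ∈ zpowers u, ∀ j ∈ zpowers v, i * j = j * i := by
    rintro u v huv _ ⟨i, rfl⟩ _ ⟨j, rfl⟩
    exact (Commute.zpow_zpow huv i j).eq
  have e12 := CfsgLib.SignalizerConn42.elemAb_sup e1 e2 (hz cab)
  have hc12 : ∀ x ∈ zpowers a ⊔ zpowers b, ∀ j ∈ zpowers c, x * j = j * x := by
    intro x hx j hj
    have hle : zpowers a ⊔ zpowers b ≤ centralizer (zpowers c : Set K) := sup_le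
      (fun i hi => mem_centralizer_iff.2 fun j hj => (hz cac i hi j hj).symm)
      (fun i hi => mem_centralizer_iff.2 fun j hj => (hz cbc i hi j hj).symm)
    exact (mem_centralizer_iff.1 (hle hx) j hj).symm
  have eE := CfsgLib.SignalizerConn42.elemAb_sup e12 e3 hc12
  set E := zpowers a ⊔ zpowers b ⊔ zpowers c
  have hcard : Nat.card E ≤ 4 := by simpa using h2 E eE.1 eE.2
  by_contra hne
  push Not at hne
  have haE : a ∈ E := mem_sup_left (mem_sup_left (mem_zpowers a))
  have hbE : b ∈ E := mem_sup_left (mem_sup_right (mem_zpowers b))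
  have hcE : c ∈ E := mem_sup_right (mem_zpowers c)
  have hsub : ({1, a, b, a * b, c} : Finset K) ⊆ (E : Set K).toFinite.toFinset := by
    intro u hu
    simp only [Finset.mem_insert, Finset.mem_singleton] at hu
    rw [Set.Finite.mem_toFinset]
    rcases hu with rfl | rfl | rfl | rfl | rfl
    exacts [one_mem _, haE, hbE, mul_mem haE hbE, hcE]
  have hle := Finset.card_le_card hsub
  rw [← Nat.card_eq_card_finite_toFinset, show Nat.card (E : Set K) = Nat.card E from rfl] at hle
  have habne1 : a * b ≠ 1 := fun e => hab ((inv_eq_of_mul_eq_one_right ha).symm.trans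
    (inv_eq_of_mul_eq_one_right e))
  have h5 : ({1, a, b, a * b, c} : Finset K).card = 5 := by
    rw [Finset.card_insert_of_notMem, Finset.card_insert_of_notMem, Finset.card_insert_of_notMem,
      Finset.card_insert_of_notMem, Finset.card_singleton] <;>
      simp [ha1, hb1, hab, habne1, Ne.symm ha1, Ne.symm hb1, Ne.symm habne1, hne.1, hne.2.1,
        hne.2.2.1, hne.2.2.2, Ne.symm hne.1, Ne.symm hne.2.1, Ne.symm hne.2.2.1, Ne.symm hne.2.2.2]
  omega

/-- Two distinct commuting involutions in the Sylow subgroup, one of them central. -/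
theorem exists_second (hiso : ∀ t : K, ¬ Cfsg.IsIsolatedInvolution t) {z : K}
    (hz : orderOf z = 2) : ∃ u ∈ (R : Subgroup K), orderOf u = 2 ∧ u ≠ z := by
  by_contra hne
  push Not at hne
  exact hiso z (CfsgLib.Involutions.isIsolated_of_sylow R hz fun g hg =>
    hne _ hg (by rw [ord_conj, hz]))

/-- One class of involutions. -/
theorem oneClass (h2 : Cfsg.PRankLE 2 2 K) (hidx : ∀ M : Subgroup K, M.index ≠ 2)
    (hiso : ∀ t : K, ¬ Cfsg.IsIsolatedInvolution t) {z : K} (hzR : z ∈ (R : Subgroup K))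
    (hz : orderOf z = 2) (hzc : ∀ r ∈ (R : Subgroup K), r * z = z * r)
    (hC : centralizer ({z} : Set K) ≤ normalizer ((R : Subgroup K) : Set K))
    {a b : K} (ha : orderOf a = 2) (hb : orderOf b = 2) : IsConj a b := by
  haveI : Fact (Nat.Prime 2) := ⟨Nat.prime_two⟩
  have sq : ∀ {u : K}, orderOf u = 2 → u * u = 1 := fun hu => by
    rw [← pow_two, ← hu, pow_orderOf_eq_one]
  have ne1 : ∀ {u : K}, orderOf u = 2 → u ≠ 1 := fun hu e => by simp [e] at hu
  suffices key : ∀ u ∈ (R : Subgroup K), orderOf u = 2 → IsConj z u by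
    have all : ∀ u, orderOf u = 2 → IsConj z u := by
      intro u hu
      obtain ⟨P, hP⟩ := (IsPGroup.of_card (n := 1) (by rw [Nat.card_zpowers, hu, pow_one]) :
        IsPGroup 2 (zpowers u)).exists_le_sylow
      obtain ⟨g, rfl⟩ := MulAction.exists_smul_eq K R P
      have h1 : u ∈ ((g • R : Sylow 2 K) : Subgroup K) := hP (mem_zpowers u)
      rw [CfsgLib.CentralSylow.mem_smul_iff] at h1
      refine (key _ h1 ?_).trans (isConj_iff.2 ⟨g, by group⟩)
      rw [show g⁻¹ * u * g = g⁻¹ * u * (g⁻¹)⁻¹ by group, ord_conj, hu]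
    exact (all a ha).symm.trans (all b hb)
  by_cases hw : ∃ w ∈ (R : Subgroup K), orderOf w = 2 ∧ w ≠ z ∧ ∀ r ∈ (R : Subgroup K), r * w = w * r
  · obtain ⟨w, hwR, hw, hwz, hwc⟩ := hw
    have hcases : ∀ u ∈ (R : Subgroup K), orderOf u = 2 → u = z ∨ u = w ∨ u = z * w := fun u hu huo =>
      (mem_pair_of_rank_two h2 (sq hz) (sq hw) (sq huo) (ne1 hz) (ne1 hw) hwz.symm (hwc z hzR)
        (hzc u hu).symm (hwc u hu).symm).resolve_left (ne1 huo)
    have hzw : orderOf (z * w) = 2 := orderOf_eq_prime
      (by rw [(show Commute z w from hwc z hzR).mul_pow, pow_two, pow_two, sq hz, sq hw, one_mul])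
      (fun e => hwz ((inv_eq_of_mul_eq_one_right e).symm.trans (inv_eq_of_mul_eq_one_right (sq hz))))
    -- every element is conjugate to another one
    have moved : ∀ u ∈ (R : Subgroup K), orderOf u = 2 → ∃ v ∈ (R : Subgroup K), orderOf v = 2 ∧
        v ≠ u ∧ IsConj u v := by
      intro u hu huo
      by_contra hne
      push Not at hne
      exact hiso u (CfsgLib.Involutions.isIsolated_of_sylow R huo fun g hg =>
        by_contra fun hd => hne _ hg (by rw [ord_conj, huo]) hd (isConj_iff.2 ⟨g, rfl⟩))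
    have hzwR : z * w ∈ (R : Subgroup K) := mul_mem hzR hwR
    obtain ⟨v₁, hv₁, hv₁o, hv₁n, c₁⟩ := moved z hzR hz
    obtain ⟨v₂, hv₂, hv₂o, hv₂n, c₂⟩ := moved w hwR hw
    obtain ⟨v₃, hv₃, hv₃o, hv₃n, c₃⟩ := moved _ hzwR hzw
    intro u hu huo
    rcases hcases _ hv₁ hv₁o with e₁ | e₁ | e₁ <;> rcases hcases _ hv₂ hv₂o with e₂ | e₂ | e₂ <;>
      rcases hcases _ hv₃ hv₃o with e₃ | e₃ | e₃ <;> subst e₁ e₂ e₃ <;>
      first
        | exact absurd rfl hv₁n
        | exact absurd rfl hv₂n
        | exact absurd rfl hv₃n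
        | (rcases hcases _ hu huo with rfl | rfl | rfl <;>
            first
              | exact IsConj.refl _
              | exact c₁
              | exact c₂.symm
              | exact c₃.symm
              | exact c₁.trans c₂
              | exact c₁.trans c₃
              | exact c₃.symm.trans c₁
              | exact c₂.symm.trans c₁
              | exact c₂.symm.trans c₃.symm
              | exact c₃.symm.trans c₂.symm)
  · push Not at hw
    have hC' : ∀ J : (R : Subgroup K), J ∈ center (R : Subgroup K) → orderOf J = 2 →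
        centralizer ({(J : K)} : Set K) ≤ normalizer ((R : Subgroup K) : Set K) := by
      intro J hJ hJo
      rw [← Subgroup.orderOf_coe] at hJo
      have : (J : K) = z := by
        by_contra hne
        obtain ⟨r, hr, hrne⟩ := hw _ J.2 hJo hne
        exact hrne (congrArg Subtype.val (mem_center_iff.1 hJ ⟨r, hr⟩))
      rwa [this]
    obtain ⟨u, huR, huo, huz⟩ := exists_second (R := R) hiso hz
    have noab : (∀ r s : (R : Subgroup K), r * s = s * r) → False := fun hab => by
      obtain ⟨r, hr, hrne⟩ := hw u huR huo huz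
      exact hrne (congrArg Subtype.val (hab ⟨r, hr⟩ ⟨u, huR⟩))
    have h1 : ¬ Cfsg.PRankLE 2 1 K := fun h1 => by
      have e := CfsgLib.SignalizerConn42.elemAb_sup
        (CfsgLib.SignalizerConn42.elemAb_zpowers (p := 2) (a := z) (by rw [pow_two]; exact sq hz))
        (CfsgLib.SignalizerConn42.elemAb_zpowers (p := 2) (a := u) (by rw [pow_two]; exact sq huo))
        (by
          rintro _ ⟨i, rfl⟩ _ ⟨j, rfl⟩
          exact (Commute.zpow_zpow (hzc u huR).symm i j).eq)
      have hle : Nat.card (zpowers z ⊔ zpowers u : Subgroup K) ≤ 2 := by simpa using h1 _ e.1 e.2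
      have heq : zpowers z = zpowers z ⊔ zpowers u :=
        Subgroup.eq_of_le_of_card_ge le_sup_left (by rw [Nat.card_zpowers, hz]; exact hle)
      have hmem : u ∈ zpowers z := heq ▸ mem_sup_right (mem_zpowers u)
      obtain ⟨i, hi⟩ := hmem
      rcases Int.even_or_odd i with ⟨c, rfl⟩ | ⟨c, rfl⟩
      · refine ne1 huo ?_
        show u = 1
        rw [← hi]
        show z ^ (c + c) = 1
        rw [← two_mul, zpow_mul, zpow_two, sq hz, one_zpow]
      · refine huz ?_
        rw [← hi]
        show z ^ (2 * c + 1) = z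
        rw [zpow_add, zpow_mul, zpow_two, sq hz, one_zpow, one_mul, zpow_one]
    haveI : Fintype (GaloisField 2 4) := Fintype.ofFinite _
    have hF : Fintype.card (GaloisField 2 4) = 16 := by
      rw [← Nat.card_eq_fintype_card, GaloisField.card 2 4 (by norm_num)]; rfl
    obtain ⟨Q⟩ : Nonempty (Sylow 2 (Cfsg.PSU 3 (GaloisField 2 4) 4)) := inferInstance
    rcases Cfsg.Agent.S1238.result h2 h1 hidx hiso R hF Q with
      ⟨m, hm, ⟨e⟩⟩ | hsd | hwr | ⟨n, -, ⟨e⟩⟩ | e
    · rcases Nat.lt_or_ge 2 m with hm2 | hm2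
      · obtain ⟨d, hd⟩ := CfsgLib.TwoGroups.DihedralFusion.exists_data R e hm2
        haveI := d.neZero
        intro v hv hvo
        exact CfsgLib.TwoGroups.DihedralFusion.all_conj (d := d)
          (CfsgLib.TwoGroups.DihedralFusion.conj_z_of_fusion_simple hidx hiso) hz hvo
      · exfalso
        obtain rfl : m = 2 := le_antisymm hm2 hm
        refine noab fun r s => e.injective ?_
        rw [map_mul, map_mul]
        revert r s
        intro r s
        generalize e r = p
        generalize e s = q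
        revert p q
        decide
    · exact (not_semidihedral hsd hidx hC').elim
    · exact (not_wreathed hwr hidx hC').elim
    · exact (noab fun r s => e.injective (by rw [map_mul, map_mul, mul_comm])).elim
    · exfalso
      obtain ⟨e⟩ := e
      have hF' : Fintype.card (GaloisField 2 4) = 4 ^ 2 := by rw [hF]; norm_num
      let _ := CfsgLib.InvCharThree.hermGroup hF' (show Even 4 by decide)
      obtain ⟨g⟩ := CfsgLib.InvCharThree.herm_equiv_sylow_psu hF' (show Even 4 by decide) (n := 2) rfl Q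
      have hH : CfsgLib.InvCharSixtyFour.HermLike (R : Subgroup K) 4 :=
        CfsgLib.InvCharSixtyFour.hermLike_of_equiv (g.trans e.symm)
          (CfsgLib.InvCharSixtyFour.hermLike_herm hF' (show Even 4 by decide))
      have hone : ∀ c ∈ center (R : Subgroup K), c = 1 ∨ (c : K) = z := by
        intro c hc
        by_cases hc1 : c = 1
        · exact Or.inl hc1
        right
        by_contra hcz
        have hco : orderOf (c : K) = 2 := by
          rw [Subgroup.orderOf_coe]
          exact orderOf_eq_prime (by rw [pow_two]; exact hH.center_sq c hc) hc1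
        obtain ⟨r, hr, hrne⟩ := hw _ c.2 hco hcz
        exact hrne (congrArg Subtype.val (mem_center_iff.1 hc ⟨r, hr⟩))
      have hsub : center (R : Subgroup K) ≤ zpowers (⟨z, hzR⟩ : (R : Subgroup K)) := fun c hc => by
        rcases hone c hc with rfl | e'
        · exact one_mem _
        · exact (show c = ⟨z, hzR⟩ from Subtype.ext e') ▸ mem_zpowers _
      have := Subgroup.card_le_of_le hsub
      rw [hH.card_center, Nat.card_zpowers, ← Subgroup.orderOf_coe] at this
      rw [hz] at this
      omega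

end CfsgLib.ZNType
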