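import Cfsg.Agent.Lib.ZNStructure.Shape
import Cfsg.Agent.Lib.TwoGroups85.MaxClass
import Cfsg.Agent.Lib.RankTwoTypes.Basic
import Cfsg.Agent.Lib.CIT.MaxClassBasic

/-!
A maximal 2-local subgroup isomorphic to `S₄` forces dihedral or semidihedral Sylow 2-subgroups.
-/

set_option autoImplicit false

open Cfsg Subgroup CfsgLib.ZNStructure

namespace CfsgLib.ZNType

theorem fixed_klein {K : Subgroup (Equiv.Perm (Fin 4))} [K.Normal] (hK : IsPGroup 2 K) :
    K ≤ klein := by
  intro σ hσ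
  by_contra hk
  obtain ⟨j, hj⟩ := hK ⟨σ, hσ⟩
  have hj' : σ ^ 2 ^ j = 1 := by simpa using congrArg Subtype.val hj
  have h3 : σ ^ 3 ≠ 1 := fun h3 => hk (by
    rw [eq_one_of_two_pow_odd h3 (by decide) hj']; exact one_mem _)
  obtain ⟨τ, hc3, hc1⟩ := outer_three σ hk h3
  have hc : σ * (τ * σ⁻¹ * τ⁻¹) ∈ K :=
    mul_mem hσ ((inferInstance : K.Normal).conj_mem _ (inv_mem hσ) τ)
  obtain ⟨i, hi⟩ := hK ⟨_, hc⟩
  exact hc1 (eq_one_of_two_pow_odd (n := 3) (k := i) hc3 (by decide)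
    (by simpa using congrArg Subtype.val hi))

theorem klein_sq {v : Equiv.Perm (Fin 4)} (hv : v ∈ klein) : v * v = 1 := (mem_klein.1 hv).1

/-- The four-group of a 2-local subgroup isomorphic to `S₄` is self-centralizing. -/
theorem exists_selfCentral {G : Type*} [Group G] [Finite G] {M : Subgroup G}
    (hM : Cfsg.IsMaximalTwoLocal M) (π : ↥M ≃* Equiv.Perm (Fin 4)) :
    ∃ V : Subgroup G, Nat.card V = 4 ∧ (∀ v ∈ V, v * v = 1) ∧
      ∀ c, (∀ v ∈ V, v * c = c * v) → c ∈ V := by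
  obtain ⟨T, hT, -, hMT⟩ := hM.1
  have hTM : T ≤ M := hMT ▸ Subgroup.le_normalizer
  set f : Equiv.Perm (Fin 4) →* G := M.subtype.comp π.symm.toMonoidHom with hf
  have hfi : Function.Injective f := M.subtype_injective.comp π.symm.injective
  set V := klein.map f with hV
  have hK : (T.subgroupOf M).map π.toMonoidHom ≤ klein := by
    haveI : (T.subgroupOf M).Normal := by
      subst hMT; exact Subgroup.normal_in_normalizer
    haveI : ((T.subgroupOf M).map π.toMonoidHom).Normal :=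
      Subgroup.Normal.map inferInstance _ π.surjective
    exact fixed_klein ((hT.comap_subtype).map _)
  refine ⟨V, ?_, ?_, fun c hc => ?_⟩
  · rw [hV, ← Nat.card_congr (klein.equivMapOfInjective f hfi).toEquiv, card_klein]
  · rintro _ ⟨k, hk, rfl⟩
    rw [← map_mul, klein_sq hk, map_one]
  · have hTV : T ≤ V := fun t ht => by
      refine ⟨π ⟨t, hTM ht⟩, hK ⟨⟨t, hTM ht⟩, ht, rfl⟩, ?_⟩
      simp [hf]
    have hcM : c ∈ M := by
      rw [hMT]
      refine mem_normalizer_iff.2 fun t => ⟨fun ht => ?_, fun ht => ?_⟩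
      · rw [← hc t (hTV ht), mul_inv_cancel_right]; exact ht
      · have h1 := hc _ (hTV ht)
        have e : t = c * t * c⁻¹ := mul_left_cancel (a := c) (by simpa [mul_assoc] using h1)
        rwa [← e] at ht
    refine ⟨π ⟨c, hcM⟩, klein_cent _ fun v hv => hfi ?_, by simp [hf]⟩
    rw [map_mul, map_mul, show f (π ⟨c, hcM⟩) = c by simp [hf]]
    exact (hc _ ⟨v, hv, rfl⟩).symm

/-- A self-centralizing four-group gives a dihedral or semidihedral Sylow 2-subgroup. -/
theorem dihedral_or_semidihedral {G : Type*} [Group G] [Finite G] (R : Sylow 2 G) {V : Subgroup G}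
    (hV : Nat.card V = 4) (hsq : ∀ v ∈ V, v * v = 1) (hc : ∀ c, (∀ v ∈ V, v * c = c * v) → c ∈ V) :
    (∃ n : ℕ, 2 ≤ n ∧ Nonempty ((R : Subgroup G) ≃* DihedralGroup n)) ∨
      Cfsg.IsQuasiDihedral (R : Subgroup G) := by
  classical
  haveI : Fact (Nat.Prime 2) := ⟨Nat.prime_two⟩
  obtain ⟨P, hP⟩ := (IsPGroup.of_card (n := 2) (by rw [hV]; norm_num) : IsPGroup 2 V).exists_le_sylow
  suffices h : (∃ n : ℕ, 2 ≤ n ∧ Nonempty ((P : Subgroup G) ≃* DihedralGroup n)) ∨
      Cfsg.IsQuasiDihedral (P : Subgroup G) by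
    have e : (R : Subgroup G) ≃* (P : Subgroup G) := R.equiv P
    rcases h with ⟨n, hn, ⟨d⟩⟩ | ⟨n, hn, hcard, x, y, hx, hy, hr⟩
    · exact Or.inl ⟨n, hn, ⟨e.trans d⟩⟩
    · refine Or.inr ⟨n, hn, (Nat.card_congr e.toEquiv).trans hcard, e.symm x, e.symm y, ?_, ?_, ?_⟩
      · rw [MulEquiv.orderOf_eq]; exact hx
      · rw [MulEquiv.orderOf_eq]; exact hy
      · rw [← map_inv, ← map_mul, ← map_mul, hr, map_pow]
  set A := V.subgroupOf (P : Subgroup G) with hA
  have hA4 : Nat.card A = 2 ^ 2 := by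
    rw [Nat.card_congr (subgroupOfEquivOfLe hP).toEquiv, hV]; norm_num
  haveI : IsMulCommutative A := IsPGroup.isMulCommutative_of_card_eq_prime_sq hA4
  have hAc : centralizer (A : Set (P : Subgroup G)) = A := le_antisymm
    (fun (c : ↥(P : Subgroup G)) hcA => mem_subgroupOf.2 (hc (c : G) fun v hv =>
      congrArg Subtype.val (mem_centralizer_iff.1 hcA ⟨v, hP hv⟩ hv)))
    (Subgroup.le_centralizer A)
  obtain ⟨n, hn⟩ := IsPGroup.iff_card.1 P.2
  by_cases h3 : 3 ≤ n
  · have hcl := CfsgLib.MaxClass.class_of_selfCentralizing (p := 2) n _ hn A hA4 hAc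
    rcases CfsgLib.TwoGroups85.isDSQ_of_maximalClass h3 hn hcl with
      ⟨k, ⟨e⟩⟩ | ⟨k, hk, a, b, ha, hb, hab⟩ | ⟨k, ⟨e⟩⟩
    · exact Or.inl ⟨2 ^ (k + 2), le_trans (by norm_num)
        (Nat.pow_le_pow_right two_pos (show 1 ≤ k + 2 by omega)), ⟨e⟩⟩
    · exact Or.inr ⟨k + 3, by omega, hk, a, b, ha, hb, hab⟩
    · exfalso
      have ho : ∀ a : A, a ≠ 1 → orderOf (a : (P : Subgroup G)) = 2 := fun a ha =>
        orderOf_eq_prime (Subtype.ext (by
          rw [Subgroup.coe_pow, pow_two]; exact hsq _ a.2))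
          fun e => ha (Subtype.ext e)
      have hsub : ∀ a b : A, a ≠ 1 → b ≠ 1 → a = b := fun a b ha hb =>
        Subtype.ext (CfsgLib.RankTwoTypes.quat_one e (ho a ha) (ho b hb))
      haveI : Nontrivial A := Finite.one_lt_card_iff_nontrivial.1 (by rw [hA4]; norm_num)
      obtain ⟨a, ha⟩ := exists_ne (1 : A)
      have hcard : Nat.card A ≤ Nat.card Bool :=
        Nat.card_le_card_of_surjective (fun b : Bool => if b then a else 1) fun c => by
          by_cases hc1 : c = 1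
          · exact ⟨false, by simp [hc1]⟩
          · exact ⟨true, by simp [hsub c a hc1 ha]⟩
      rw [hA4, Nat.card_eq_fintype_card, Fintype.card_bool] at hcard
      norm_num at hcard
  · left
    have hPV : (P : Subgroup G) = V := (Subgroup.eq_of_le_of_card_ge hP (by
      rw [hV, hn]
      exact le_trans (Nat.pow_le_pow_right two_pos (show n ≤ 2 by omega)) (by norm_num))).symm
    have h4 : Nat.card (P : Subgroup G) = 4 := by rw [hPV, hV]
    haveI : IsKleinFour ↥(P : Subgroup G) := CfsgLib.CIT.four_of_card h4 fun v hv => by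
      exact hsq _ (hPV ▸ hv)
    refine ⟨2, le_rfl, ?_⟩
    have hD : Nat.card (DihedralGroup 2) = 4 := by rw [DihedralGroup.nat_card]
    haveI : Finite (DihedralGroup 2) := Nat.finite_of_card_ne_zero (by omega)
    obtain ⟨e0⟩ : Nonempty (↥(P : Subgroup G) ≃ DihedralGroup 2) :=
      Finite.card_eq.1 (h4.trans hD.symm)
    exact ⟨IsKleinFour.mulEquiv (e0.trans (Equiv.swap (e0 1) 1)) (by simp)⟩

end CfsgLib.ZNType
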