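import Cfsg.Agent.Lib.ZNType.Reduce
import Cfsg.Agent.Lib.ZNType.Shape
import Cfsg.Agent.S0518

/-!
The two structure theorems.
-/

set_option autoImplicit false

open Cfsg Subgroup

namespace CfsgLib.ZNType

variable {G : Type*} [Group G] [Finite G] {S : Sylow 2 G}

/-- A strongly embedded subgroup of a group containing `H` gives one of `H`. -/
theorem stronglyEmbedded_resid {N : Subgroup G} (hHN : Cfsg.pResidual 2 G ≤ N)
    (he : Even (Nat.card ↥(Cfsg.pResidual 2 G))) {M : Subgroup ↥N} (hM : Cfsg.IsStronglyEmbedded M) :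
    ∃ X : Subgroup ↥(Cfsg.pResidual 2 G), Cfsg.IsStronglyEmbedded X := by
  haveI : Fact (Nat.Prime 2) := ⟨Nat.prime_two⟩
  haveI := resid_normal (G := G)
  set H := Cfsg.pResidual 2 G
  set HN := H.subgroupOf N
  -- an involution of `H` in `M`
  obtain ⟨t, htM, ht⟩ := CfsgLib.Involutions.exists_involution_of_even_card M hM.2.1
  obtain ⟨P, hP⟩ := (IsPGroup.of_card (n := 1) (by rw [Nat.card_zpowers, ht, pow_one]) :
    IsPGroup 2 (zpowers t)).exists_le_sylow
  set D := HN.subgroupOf (P : Subgroup ↥N)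
  have hD : D ≠ ⊥ := by
    intro e
    have h1 := CfsgLib.Fusion.card_sylow_inf_normal P HN
    have h2 : Nat.card ↥((P : Subgroup ↥N) ⊓ HN) = Nat.card D := by
      rw [← Nat.card_congr (subgroupOfEquivOfLe (inf_le_left :
        (P : Subgroup ↥N) ⊓ HN ≤ P)).toEquiv]
      congr 1
      rw [inf_subgroupOf_left]
    rw [h2, e, Subgroup.card_bot, Nat.card_congr (subgroupOfEquivOfLe hHN).toEquiv] at h1
    have h3 := (Nat.Prime.factorization_pos_of_dvd Nat.prime_two Nat.card_pos.ne' he.two_dvd)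
    have h4 : 2 ^ 1 ≤ 2 ^ (Nat.card ↥H).factorization 2 := Nat.pow_le_pow_right two_pos h3
    omega
  obtain ⟨u, huD, huc, hu1, hu2⟩ := CfsgLib.TwoGroups85.exists_central_involution_mem P.2 hD
  have huM : (u : ↥N) ∈ M := CfsgLib.Involutions.se_centralizer_le hM htM ht
    (mem_centralizer_singleton_iff.2
      (congrArg Subtype.val (mem_center_iff.1 huc ⟨t, hP (mem_zpowers t)⟩)).symm)
  set u' : ↥H := ⟨((u : ↥N) : G), huD⟩
  set X := (M.map N.subtype).subgroupOf H
  have memX : ∀ x : ↥H, x ∈ X ↔ (⟨(x : G), hHN x.2⟩ : ↥N) ∈ M := fun x => by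
    constructor
    · rintro ⟨m, hm, e⟩
      exact (Subtype.ext e : m = ⟨(x : G), hHN x.2⟩) ▸ hm
    · exact fun hx => ⟨_, hx, rfl⟩
  have huX : u' ∈ X := (memX _).2 huM
  have huo : orderOf u' = 2 := orderOf_eq_prime
    (Subtype.ext (congrArg (fun v : ↥(P : Subgroup ↥N) => ((v : ↥N) : G)) hu2))
    (fun e => hu1 (Subtype.ext (Subtype.ext (congrArg Subtype.val e : _))))
  refine ⟨X, fun htop => hM.1 ?_, even_iff_two_dvd.2 ?_, fun g hg => ?_⟩
  · -- `H ≤ M` is impossible
    refine eq_top_iff.2 fun g _ => ?_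
    by_contra hgM
    have hodd := hM.2.2 g hgM
    refine Nat.not_even_iff_odd.2 hodd (even_iff_two_dvd.2 ?_)
    have hle : HN ≤ M ⊓ M.map (MulAut.conj g).toMonoidHom := by
      intro x hx
      have hxM : ∀ y : ↥N, (y : G) ∈ H → y ∈ M := fun y hy =>
        (memX ⟨y, hy⟩).1 (htop ▸ mem_top _)
      refine ⟨hxM x hx, g⁻¹ * x * g, hxM _ ?_, by simp [mul_assoc]⟩
      have := (inferInstance : H.Normal).conj_mem _ hx (g : G)⁻¹
      simpa using this
    refine dvd_trans ?_ (card_dvd_of_le hle)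
    rw [Nat.card_congr (subgroupOfEquivOfLe hHN).toEquiv]
    exact he.two_dvd
  · rw [← huo, ← Subgroup.orderOf_mk u' huX]
    exact orderOf_dvd_natCard _
  · have hg' : (⟨(g : G), hHN g.2⟩ : ↥N) ∉ M := fun h => hg ((memX g).2 h)
    refine Odd.of_dvd_nat (hM.2.2 _ hg') ?_
    let f : ↥(X ⊓ X.map (MulAut.conj g).toMonoidHom) →*
        ↥(M ⊓ M.map (MulAut.conj (⟨(g : G), hHN g.2⟩ : ↥N)).toMonoidHom) :=
      { toFun := fun x => ⟨⟨((x : ↥H) : G), hHN (x : ↥H).2⟩, (memX _).1 x.2.1, by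
          obtain ⟨y, hy, e⟩ := x.2.2
          refine ⟨⟨(y : G), hHN y.2⟩, (memX _).1 hy, Subtype.ext ?_⟩
          have e' := congrArg Subtype.val e
          simpa using e'⟩
        map_one' := rfl
        map_mul' := fun _ _ => rfl }
    exact Subgroup.card_dvd_of_injective f fun a b e => Subtype.ext (Subtype.ext
      (congrArg (fun v : ↥(M ⊓ M.map (MulAut.conj (⟨(g : G), hHN g.2⟩ : ↥N)).toMonoidHom) =>
        ((v : ↥N) : G)) e))

/-- The reduction. -/
theorem se_or (h : ZC S) :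
    (∃ M : Subgroup ↥(Cfsg.pResidual 2 G), Cfsg.IsStronglyEmbedded M) ∨
      (Nat.card ↥(zOf (S : Subgroup G)) = 4 ∧
        Cfsg.omegaOne 2 ((S : Subgroup G) ⊓ Cfsg.pResidual 2 G) = zOf (S : Subgroup G)) ∨
      Cfsg.IsCharacteristicTwoType ↥(nOf S) := by
  classical
  haveI : Fact (Nat.Prime 2) := ⟨Nat.prime_two⟩
  haveI := resid_normal (G := G)
  by_cases h2 : Cfsg.PRankLE 2 2 ↥(nOf S)
  swap
  · exact Or.inr (Or.inr (h.charTwo_of_rank h2))
  set H := Cfsg.pResidual 2 G with hH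
  obtain ⟨z, hzZ, hzH, hz⟩ := h.exists_z
  obtain ⟨hzS, hz2, hzc⟩ := mem_zOf.1 hzZ
  obtain ⟨R, hR⟩ := CfsgLib.Fusion.exists_sylow_inf (S := S) (H := H)
  have memR : ∀ x : ↥H, x ∈ (R : Subgroup ↥H) ↔ (x : G) ∈ (S : Subgroup G) := fun x => by
    rw [hR, mem_subgroupOf, mem_inf]; simp [x.2]
  set z' : ↥H := ⟨z, hzH⟩
  have hz' : orderOf z' = 2 := by rw [← Subgroup.orderOf_coe]; exact hz
  by_cases hZ2 : Nat.card ↥(zOf (S : Subgroup G)) ≤ 2
  · have e := h.nOf_eq hZ2
    have hzz : zpowers z = zOf (S : Subgroup G) :=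
      Subgroup.eq_of_le_of_card_ge (zpowers_le.2 hzZ) (by rw [Nat.card_zpowers, hz]; exact hZ2)
    have hzR : z' ∈ (R : Subgroup ↥H) := (memR _).2 hzS
    have hzc' : ∀ r ∈ (R : Subgroup ↥H), r * z' = z' * r := fun r hr =>
      Subtype.ext (hzc _ ((memR r).1 hr))
    have hC : centralizer ({z'} : Set ↥H) ≤ normalizer ((R : Subgroup ↥H) : Set ↥H) := by
      intro c hc
      have hcn := h.hZ S (show (c : G) ∈ centralizer (zOf (S : Subgroup G) : Set G) by
        rw [← hzz]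
        refine mem_centralizer_iff.2 fun x hx => ?_
        obtain ⟨i, rfl⟩ := hx
        exact (Commute.zpow_left (show Commute z (c : G) from
          (congrArg Subtype.val (mem_centralizer_singleton_iff.1 hc)).symm) i).eq)
      rw [mem_normalizer_iff]
      intro y
      rw [memR, memR]
      exact mem_normalizer_iff.1 hcn _
    rw [e] at h2 ⊢
    rcases stronglyEmbedded_or_charTwo h.resid_core (h.constrained H)
        (fun a b ha hb => oneClass h2 h.resid_idx h.resid_iso hzR hz' hzc' hC ha hb)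
        hzR hz' hzc' hC with hse | hct
    · exact Or.inl hse
    · exact Or.inr (Or.inr hct)
  refine Or.inr (Or.inl ?_)
  obtain ⟨b, hb, hbz⟩ : ∃ b ∈ zOf (S : Subgroup G), b ∉ zpowers z := by
    by_contra hne
    push Not at hne
    apply hZ2
    exact (card_le_of_le hne).trans (by rw [Nat.card_zpowers, hz])
  have hne1 : ∀ {x : G}, orderOf x = 2 → x ≠ 1 := fun hx e => by simp [e] at hx
  have hbz' : z ≠ b := fun e => hbz (e ▸ mem_zpowers z)
  have hb1 : b ≠ 1 := fun e => hbz (e ▸ one_mem _)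
  -- three commuting involutions of `H Z`
  have key : ∀ a c : G, a ∈ nOf S → a * a = 1 → a ≠ 1 → a ≠ z → z * a = a * z →
      c ∈ nOf S → c * c = 1 → z * c = c * z → a * c = c * a →
      c = 1 ∨ c = z ∨ c = a ∨ c = z * a := by
    intro a c haN ha ha1 haz hza hcN hc hzc'' hac
    have hzN : z ∈ nOf S := mem_sup_left hzH
    rcases mem_pair_of_rank_two (K := ↥(nOf S)) h2 (a := ⟨z, hzN⟩) (b := ⟨a, haN⟩) (c := ⟨c, hcN⟩)
      (Subtype.ext (by simpa [pow_two] using hz2)) (Subtype.ext ha) (Subtype.ext hc)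
      (fun e => hne1 hz (congrArg Subtype.val e)) (fun e => ha1 (congrArg Subtype.val e))
      (fun e => haz (congrArg Subtype.val e).symm) (Subtype.ext hza) (Subtype.ext hzc'')
      (Subtype.ext hac) with e | e | e | e
    · exact Or.inl (congrArg Subtype.val e)
    · exact Or.inr (Or.inl (congrArg Subtype.val e))
    · exact Or.inr (Or.inr (Or.inl (congrArg Subtype.val e)))
    · exact Or.inr (Or.inr (Or.inr (congrArg Subtype.val e)))
  obtain ⟨hbS, hb2, hbc⟩ := mem_zOf.1 hb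
  have hzb : z * b = b * z := hbc z hzS
  have inZ : ∀ u, u ∈ (S : Subgroup G) → u ∈ H → u * u = 1 → u ∈ zOf (S : Subgroup G) := by
    intro u huS huH hu
    rcases key b u (mem_sup_right hb) (by simpa [pow_two] using hb2) hb1 hbz'.symm hzb
      (mem_sup_left huH) hu (hzc u huS).symm (hbc u huS).symm with rfl | rfl | rfl | rfl
    exacts [one_mem _, hzZ, hb, mul_mem hzZ hb]
  obtain ⟨u, huR, huo, huz⟩ := exists_second (R := R) h.resid_iso (z := z') hz'
  have huS : (u : G) ∈ (S : Subgroup G) := (memR u).1 huR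
  have hu2 : (u : G) * u = 1 := congrArg Subtype.val (sq_one huo)
  have huZ : (u : G) ∈ zOf (S : Subgroup G) := inZ _ huS u.2 hu2
  have hu1 : (u : G) ≠ 1 := hne1 (by rw [Subgroup.orderOf_coe]; exact huo)
  have huz' : (u : G) ≠ z := fun e => huz (Subtype.ext e)
  obtain ⟨-, -, huc⟩ := mem_zOf.1 huZ
  have hall : ∀ x ∈ zOf (S : Subgroup G), x = 1 ∨ x = z ∨ x = (u : G) ∨ x = z * u := fun x hx => by
    obtain ⟨hxS, hx2, hxc⟩ := mem_zOf.1 hx
    exact key u x (mem_sup_right huZ) hu2 hu1 huz' (huc z hzS) (mem_sup_right hx)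
      (by simpa [pow_two] using hx2) (hxc z hzS) (hxc _ huS)
  have hΩ : ∀ y, y ∈ (S : Subgroup G) ⊓ H → y * y = 1 → y ∈ Cfsg.omegaOne 2 ((S : Subgroup G) ⊓ H) :=
    fun y hy hy2 => subset_closure ⟨hy, by rw [pow_two]; exact hy2⟩
  refine ⟨?_, le_antisymm ((closure_le _).2 fun y hy => inZ y hy.1.1 hy.1.2
    (by rw [← pow_two]; exact hy.2)) fun x hx => ?_⟩
  · obtain ⟨k, hk⟩ := IsPGroup.iff_card.1 (S.2.to_le
      (show zOf (S : Subgroup G) ≤ S from fun x hx => (mem_zOf.1 hx).1))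
    have hsurj : Function.Surjective (fun p : Bool × Bool =>
        ((if p.1 then (⟨z, hzZ⟩ : ↥(zOf (S : Subgroup G))) else 1) *
          (if p.2 then ⟨(u : G), huZ⟩ else 1))) := fun x => by
      rcases hall _ x.2 with e | e | e | e
      · exact ⟨(false, false), Subtype.ext (by simp [e])⟩
      · exact ⟨(true, false), Subtype.ext (by simp [e])⟩
      · exact ⟨(false, true), Subtype.ext (by simp [e])⟩
      · exact ⟨(true, true), Subtype.ext (by simp [e])⟩
    have hle := Nat.card_le_card_of_surjective _ hsurj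
    rw [Nat.card_eq_fintype_card (α := Bool × Bool), show Fintype.card (Bool × Bool) = 4 from rfl,
      hk] at hle
    rw [hk] at hZ2 ⊢
    rcases k with _ | _ | _ | k
    · simp at hZ2
    · simp at hZ2
    · norm_num
    · have : 2 ^ 3 ≤ 2 ^ (k + 3) := Nat.pow_le_pow_right two_pos (by omega)
      omega
  · have hzΩ := hΩ z ⟨hzS, hzH⟩ (by simpa [pow_two] using hz2)
    have huΩ := hΩ u ⟨huS, u.2⟩ hu2
    rcases hall x hx with rfl | rfl | rfl | rfl
    exacts [one_mem _, hzΩ, huΩ, mul_mem hzΩ huΩ]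

/-- A dihedral or semidihedral Sylow subgroup, or a strongly embedded subgroup, or small `Z`. -/
theorem zn_main (h : ZC S)
    (hN : ∀ L : Subgroup G, Cfsg.IsTwoLocal L → Group.IsSolvable L) :
    (∃ M : Subgroup ↥(Cfsg.pResidual 2 G), Cfsg.IsStronglyEmbedded M) ∨
      ((∃ n : ℕ, 2 ≤ n ∧
          Nonempty (↥((S : Subgroup G) ⊓ Cfsg.pResidual 2 G) ≃* DihedralGroup n)) ∨
        Cfsg.IsQuasiDihedral ↥((S : Subgroup G) ⊓ Cfsg.pResidual 2 G)) ∨
      (Nat.card ↥(zOf (S : Subgroup G)) = 4 ∧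
        Cfsg.omegaOne 2 ((S : Subgroup G) ⊓ Cfsg.pResidual 2 G) = zOf (S : Subgroup G)) := by
  classical
  haveI : Fact (Nat.Prime 2) := ⟨Nat.prime_two⟩
  haveI := resid_normal (G := G)
  rcases se_or h with hse | hd | hct
  · exact Or.inl hse
  · exact Or.inr (Or.inr hd)
  set N := nOf S
  set H' := Subgroup.closure {g : ↥N | Odd (orderOf g)} with hH'
  have hN' : ∀ L : Subgroup ↥N, Cfsg.IsTwoLocal L → Group.IsSolvable L := by
    rintro L ⟨T, hT, hT1, rfl⟩
    haveI := hN _ ⟨T.map N.subtype, hT.map _, fun e => hT1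
      ((Subgroup.map_eq_bot_iff_of_injective T N.subtype_injective).1 e), rfl⟩
    let f : ↥(normalizer (T : Set ↥N)) →* ↥(normalizer ((T.map N.subtype : Subgroup G) : Set G)) :=
      { toFun := fun x => ⟨((x : ↥N) : G), le_normalizer_map N.subtype ⟨x, x.2, rfl⟩⟩
        map_one' := rfl
        map_mul' := fun _ _ => rfl }
    exact Group.isSolvable_of_isSolvable_injective (f := f) fun a b e =>
      Subtype.ext (Subtype.ext (congrArg
        (fun v : ↥(normalizer ((T.map N.subtype : Subgroup G) : Set G)) => (v : G)) e))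
  rcases Cfsg.Agent.S0518.result hct h.nOf_pCore hN' h.centralizer_le_normalizer H' hH' with
    ⟨M, hM⟩ | ⟨M₁, -, -, hM₁, -, ⟨π⟩, -, -⟩
  · exact Or.inl (stronglyEmbedded_resid le_sup_left h.resid_even hM)
  refine Or.inr (Or.inl ?_)
  have hmap : H'.map N.subtype = Cfsg.pResidual 2 G := by
    refine le_antisymm ?_ (CfsgLib.Transfer.pResidual_le_iff.2 fun g hg => ?_)
    · rw [hH', MonoidHom.map_closure, closure_le]
      rintro _ ⟨g, hg, rfl⟩
      exact CfsgLib.Transfer.mem_pResidual (Nat.coprime_two_right.2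
        ((Subgroup.orderOf_coe g).symm ▸ hg))
    · refine ⟨⟨g, mem_sup_left (CfsgLib.Transfer.mem_pResidual hg)⟩, subset_closure ?_, rfl⟩
      show Odd (orderOf (⟨g, _⟩ : ↥N))
      rw [← Subgroup.orderOf_coe]
      exact Nat.coprime_two_right.1 hg
  let e : ↥H' ≃* ↥(Cfsg.pResidual 2 G) :=
    (H'.equivMapOfInjective _ N.subtype_injective).trans (MulEquiv.subgroupCongr hmap)
  obtain ⟨V, hV, hsq, hc⟩ := exists_selfCentral hM₁ π
  obtain ⟨R, hR⟩ := CfsgLib.Fusion.exists_sylow_inf (S := S) (H := Cfsg.pResidual 2 G)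
  have eR : ↥((S : Subgroup G) ⊓ Cfsg.pResidual 2 G) ≃* ↥(R : Subgroup ↥(Cfsg.pResidual 2 G)) :=
    (subgroupOfEquivOfLe inf_le_right).symm.trans (MulEquiv.subgroupCongr hR.symm)
  rcases dihedral_or_semidihedral R (V := V.map e.toMonoidHom)
      (by rw [← Nat.card_congr (V.equivMapOfInjective _ e.injective).toEquiv, hV])
      (by
        rintro _ ⟨v, hv, rfl⟩
        rw [← map_mul, hsq v hv, map_one])
      (fun c hcc => ⟨e.symm c, hc _ (fun v hv => e.injective (by
        have := hcc _ ⟨v, hv, rfl⟩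
        simpa using this)), by simp⟩) with ⟨n, hn, ⟨d⟩⟩ | ⟨n, hn, hcard, x, y, hx, hy, hr⟩
  · exact Or.inl ⟨n, hn, ⟨eR.trans d⟩⟩
  · refine Or.inr ⟨n, hn, (Nat.card_congr eR.toEquiv).trans hcard, eR.symm x, eR.symm y, ?_, ?_, ?_⟩
    · rw [MulEquiv.orderOf_eq]; exact hx
    · rw [MulEquiv.orderOf_eq]; exact hy
    · rw [← map_inv, ← map_mul, ← map_mul, hr, map_pow]

end CfsgLib.ZNType
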