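import Cfsg.Agent.Lib.ZNType.Closed
import Cfsg.Agent.Lib.CoreKill.NoIndexTwo
import Cfsg.Agent.Lib.TwoGroups85.SectionalRankTwo
import Cfsg.Agent.Lib.Fusion.GroupNormalSub
import Cfsg.Agent.S1188
import Cfsg.Agent.S1296
import Cfsg.Agent.S0504
import Cfsg.Prelude.Def_Involutions

/-!
`H = O²(G)` and `N = H Z` for a group with solvable involution centralizers and `C(Z) ≤ N(S)`.
-/

set_option autoImplicit false

open Cfsg Subgroup

namespace CfsgLib.ZNType

variable {G : Type*} [Group G] [Finite G]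

/-- `Ω₁(Z(S))`. -/
abbrev zOf (S : Subgroup G) : Subgroup G := Cfsg.omegaOne 2 (S ⊓ centralizer (S : Set G))

theorem zOf_eq (S : Subgroup G) : zOf S = CfsgLib.CoreKill.omegaCenter S := by
  refine le_antisymm ((closure_le _).2 fun x hx => ⟨hx.1.1, hx.2, fun s hs =>
    mem_centralizer_iff.1 hx.1.2 s hs⟩) fun x hx => subset_closure ⟨⟨hx.1, ?_⟩, hx.2.1⟩
  exact mem_centralizer_iff.2 fun s hs => hx.2.2 s hs

theorem mem_zOf {S : Subgroup G} {x : G} :
    x ∈ zOf S ↔ x ∈ S ∧ x ^ 2 = 1 ∧ ∀ s ∈ S, s * x = x * s := by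
  rw [zOf_eq]; exact Iff.rfl

/-- The hypotheses common to both theorems. -/
structure ZC (S : Sylow 2 G) : Prop where
  even : Even (Nat.card G)
  solv : ∀ t : G, orderOf t = 2 → Group.IsSolvable ↥(centralizer ({t} : Set G))
  hZ : ∀ P : Sylow 2 G, centralizer (zOf (P : Subgroup G) : Set G) ≤
    normalizer ((P : Subgroup G) : Set G)
  hO' : Cfsg.pPrimeCore 2 G = ⊥
  hO : Cfsg.pCore 2 G = ⊥

variable {S : Sylow 2 G}

theorem resid_normal : (Cfsg.pResidual 2 G).Normal := CfsgLib.Transfer.pResidual_normal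

namespace ZC

variable (h : ZC S)
include h

theorem resid_core : Cfsg.pPrimeCore 2 ↥(Cfsg.pResidual 2 G) = ⊥ := by
  haveI := resid_normal (G := G)
  exact CfsgLib.PCore.pPrimeCore_eq_bot_of_normal _ h.hO'

theorem resid_pCore : Cfsg.pCore 2 ↥(Cfsg.pResidual 2 G) = ⊥ := by
  haveI := resid_normal (G := G)
  exact CfsgLib.PCore.pCore_eq_bot_of_normal _ h.hO

theorem resid_even : Even (Nat.card ↥(Cfsg.pResidual 2 G)) := by
  haveI : Fact (Nat.Prime 2) := ⟨Nat.prime_two⟩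
  haveI := resid_normal (G := G)
  by_contra hodd
  have hbot : Cfsg.pResidual 2 G = ⊥ := le_bot_iff.1 (h.hO' ▸ CfsgLib.PCore.le_pPrimeCore
    inferInstance (Nat.coprime_two_right.2 (Nat.not_even_iff_odd.1 hodd)))
  have hp : IsPGroup 2 (G ⧸ (⊥ : Subgroup G)) :=
    CfsgLib.Transfer.isPGroup_quotient_of_pResidual_le _ hbot.le
  have htop : (⊤ : Subgroup G) = ⊥ := le_bot_iff.1 (h.hO ▸ CfsgLib.PCore.le_pCore inferInstance
    ((hp.of_equiv QuotientGroup.quotientBot).to_subgroup ⊤))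
  have h1 : Nat.card G = 1 := by rw [← Subgroup.card_top (G := G), htop, Subgroup.card_bot]
  exact Nat.not_even_one (h1 ▸ h.even)

theorem solv_sub (X : Subgroup G) (t : X) (ht : orderOf t = 2) :
    Group.IsSolvable ↥(centralizer ({t} : Set X)) := by
  haveI := h.solv (t : G) (by rw [Subgroup.orderOf_coe]; exact ht)
  let f : ↥(centralizer ({t} : Set X)) →* ↥(centralizer ({(t : G)} : Set G)) :=
    { toFun := fun c => ⟨((c : X) : G), mem_centralizer_singleton_iff.2
        (congrArg Subtype.val (mem_centralizer_singleton_iff.1 c.2))⟩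
      map_one' := rfl
      map_mul' := fun _ _ => rfl }
  exact Group.isSolvable_of_isSolvable_injective (f := f) fun a b e =>
    Subtype.ext (Subtype.ext (congrArg (fun v : ↥(centralizer ({(t : G)} : Set G)) => (v : G)) e))

theorem constrained (X : Subgroup G) : CfsgLib.CoreKill.ConstrainedCentralizers ↥X :=
  CfsgLib.CoreKill.constrainedCentralizers_of_solvable (h.solv_sub X)

theorem resid_idx : ∀ M : Subgroup ↥(Cfsg.pResidual 2 G), M.index ≠ 2 := by
  intro M hM
  have hle : Cfsg.pResidual 2 G ≤ M.map (Cfsg.pResidual 2 G).subtype := by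
    refine CfsgLib.Transfer.pResidual_le_iff.2 fun g hg => ?_
    set g' : ↥(Cfsg.pResidual 2 G) := ⟨g, CfsgLib.Transfer.mem_pResidual hg⟩
    haveI : M.Normal := Subgroup.normal_of_index_eq_two hM
    have h1 : orderOf (QuotientGroup.mk' M g') ∣ 2 :=
      ((_root_.orderOf_dvd_natCard _).trans (Subgroup.index_eq_card M).symm.dvd).trans hM.dvd
    have h2 : orderOf (QuotientGroup.mk' M g') ∣ orderOf g :=
      Subgroup.orderOf_coe g' ▸ orderOf_map_dvd _ _
    have h3 : orderOf (QuotientGroup.mk' M g') = 1 := by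
      rw [← Nat.dvd_one, ← hg.gcd_eq_one]; exact Nat.dvd_gcd h2 h1
    exact ⟨g', (QuotientGroup.eq_one_iff g').1 (orderOf_eq_one_iff.1 h3), rfl⟩
  have htop : M = ⊤ := eq_top_iff.2 fun x _ => by
    obtain ⟨y, hy, e⟩ := hle x.2
    exact Subtype.ext e ▸ hy
  rw [htop, Subgroup.index_top] at hM
  omega

theorem resid_iso : ∀ t : ↥(Cfsg.pResidual 2 G), ¬ Cfsg.IsIsolatedInvolution t := by
  intro t ht
  haveI : Fact (Nat.Prime 2) := ⟨Nat.prime_two⟩
  have hc := Cfsg.Agent.S1188.result t ht (h.solv_sub _ t ht.1)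
  have hcen : ∀ g, g * t = t * g := fun g => by
    have h1 := hc g
    rw [show Cfsg.oddCore ↥(Cfsg.pResidual 2 G) = ⊥ from h.resid_core, Subgroup.mem_bot,
      mul_inv_eq_one, mul_inv_eq_iff_eq_mul] at h1
    exact h1.symm
  have hn : (zpowers t).Normal := ⟨fun x hx g => by
    obtain ⟨i, rfl⟩ := hx
    have : g * t ^ i * g⁻¹ = t ^ i := by
      rw [mul_inv_eq_iff_eq_mul]
      exact (Commute.zpow_right (hcen g) i).eq
    show g * t ^ i * g⁻¹ ∈ zpowers t
    rw [this]; exact ⟨i, rfl⟩⟩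
  have h1 := CfsgLib.PCore.le_pCore (p := 2) hn
    (IsPGroup.of_card (n := 1) (by rw [Nat.card_zpowers, ht.1, pow_one]))
  rw [h.resid_pCore] at h1
  have h2 := ht.1
  rw [Subgroup.mem_bot.1 (h1 (mem_zpowers t)), orderOf_one] at h2
  omega

/-- `Z` meets `H`. -/
theorem exists_z : ∃ z, z ∈ zOf (S : Subgroup G) ∧ z ∈ Cfsg.pResidual 2 G ∧ orderOf z = 2 := by
  haveI : Fact (Nat.Prime 2) := ⟨Nat.prime_two⟩
  haveI := resid_normal (G := G)
  set D : Subgroup ↥(S : Subgroup G) := (Cfsg.pResidual 2 G).subgroupOf (S : Subgroup G)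
  have hD : D ≠ ⊥ := by
    intro e
    have h1 := CfsgLib.Fusion.card_sylow_inf_normal S (Cfsg.pResidual 2 G)
    have h2 : Nat.card ↥((S : Subgroup G) ⊓ Cfsg.pResidual 2 G) = Nat.card D := by
      rw [← Nat.card_congr (subgroupOfEquivOfLe (inf_le_left :
        (S : Subgroup G) ⊓ Cfsg.pResidual 2 G ≤ S)).toEquiv]
      congr 1
      rw [inf_subgroupOf_left]
    rw [h2, e, Subgroup.card_bot] at h1
    have h3 := (Nat.Prime.factorization_pos_of_dvd Nat.prime_two Nat.card_pos.ne'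
      h.resid_even.two_dvd)
    have h4 : 2 ^ 1 ≤ 2 ^ (Nat.card ↥(Cfsg.pResidual 2 G)).factorization 2 :=
      Nat.pow_le_pow_right two_pos h3
    omega
  obtain ⟨z, hzD, hzc, hz1, hz2⟩ := CfsgLib.TwoGroups85.exists_central_involution_mem S.2 hD
  refine ⟨(z : G), mem_zOf.2 ⟨z.2, by rw [← Subgroup.coe_pow, hz2, Subgroup.coe_one],
    fun s hs => congrArg Subtype.val (mem_center_iff.1 hzc ⟨s, hs⟩)⟩, hzD, ?_⟩
  rw [Subgroup.orderOf_coe]
  exact orderOf_eq_prime hz2 hz1

end ZC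

/-- `H Z`. -/
abbrev nOf (S : Sylow 2 G) : Subgroup G := Cfsg.pResidual 2 G ⊔ zOf (S : Subgroup G)

theorem nOf_normal (S : Sylow 2 G) : (nOf S).Normal := by
  haveI : Fact (Nat.Prime 2) := ⟨Nat.prime_two⟩
  haveI := resid_normal (G := G)
  rw [← normalizer_eq_top_iff, eq_top_iff, ← CfsgLib.Transfer.sylow_sup_pResidual S]
  refine sup_le (fun s hs => ?_) (le_sup_left.trans le_normalizer)
  rw [mem_normalizer_iff_map_conj_eq, Subgroup.map_sup]
  congr 1
  · exact mem_normalizer_iff_map_conj_eq.1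
      ((normalizer_eq_top_iff.2 (resid_normal (G := G))).symm ▸ mem_top s)
  · refine mem_normalizer_iff_map_conj_eq.1
      (CfsgLib.Coprime.mem_normalizer_of_forall_conj fun x hx => ?_)
    obtain ⟨h1, h2, h3⟩ := mem_zOf.1 hx
    rw [show s * x * s⁻¹ = x by rw [h3 s hs, mul_inv_cancel_right]]
    exact hx

/-- Conjugating `Ω₁(Z(S))`. -/
theorem conj_mem_zOf {g x : G} {P : Sylow 2 G} (hx : x ∈ zOf (P : Subgroup G)) :
    g * x * g⁻¹ ∈ zOf ((g • P : Sylow 2 G) : Subgroup G) := by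
  obtain ⟨h1, h2, h3⟩ := mem_zOf.1 hx
  refine mem_zOf.2 ⟨?_, by rw [_root_.conj_pow, h2, mul_one, mul_inv_cancel], fun s hs => ?_⟩
  · rw [CfsgLib.CentralSylow.mem_smul_iff]
    simpa [mul_assoc] using h1
  · rw [CfsgLib.CentralSylow.mem_smul_iff] at hs
    have h4 := congrArg (fun v => g * v * g⁻¹) (h3 _ hs)
    simpa [mul_assoc] using h4

namespace ZC

variable (h : ZC S)
include h

theorem zOf_le_nOf (P : Sylow 2 G) : zOf (P : Subgroup G) ≤ nOf S := by
  haveI : Fact (Nat.Prime 2) := ⟨Nat.prime_two⟩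
  obtain ⟨g, rfl⟩ := MulAction.exists_smul_eq G P S
  intro x hx
  have h1 : g * x * g⁻¹ ∈ nOf (g • P) := mem_sup_right (conj_mem_zOf hx)
  have := (nOf_normal (g • P)).conj_mem _ h1 g⁻¹
  simpa [mul_assoc] using this

theorem centralizer_le_normalizer (T : Sylow 2 ↥(nOf S)) :
    centralizer {z : ↥(nOf S) | z ∈ (T : Subgroup ↥(nOf S)) ∧ z ^ 2 = 1 ∧
        ∀ s ∈ (T : Subgroup ↥(nOf S)), s * z = z * s} ≤
      normalizer ((T : Subgroup ↥(nOf S)) : Set ↥(nOf S)) := by
  haveI : Fact (Nat.Prime 2) := ⟨Nat.prime_two⟩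
  obtain ⟨P, hP⟩ := (T.2.map (nOf S).subtype).exists_le_sylow
  have hT : ∀ x : ↥(nOf S), x ∈ (T : Subgroup ↥(nOf S)) ↔ (x : G) ∈ (P : Subgroup G) := by
    have e := T.is_maximal' (Q := (P : Subgroup G).subgroupOf (nOf S)) P.2.comap_subtype
      (fun x hx => hP ⟨x, hx, rfl⟩)
    exact fun x => by rw [← e]; rfl
  intro c hc
  have hcZ : (c : G) ∈ centralizer (zOf (P : Subgroup G) : Set G) :=
    mem_centralizer_iff.2 fun x hx => by
      obtain ⟨h1, h2, h3⟩ := mem_zOf.1 hx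
      have := mem_centralizer_iff.1 hc ⟨x, h.zOf_le_nOf P hx⟩
        ⟨(hT _).2 h1, Subtype.ext (by simpa using h2),
          fun s hs => Subtype.ext (h3 _ ((hT _).1 hs))⟩
      exact congrArg Subtype.val this
  have hn := h.hZ P hcZ
  rw [mem_normalizer_iff]
  intro y
  rw [hT, hT]
  exact mem_normalizer_iff.1 hn _

theorem nOf_core : Cfsg.pPrimeCore 2 ↥(nOf S) = ⊥ := by
  haveI := nOf_normal S
  exact CfsgLib.PCore.pPrimeCore_eq_bot_of_normal _ h.hO'

theorem nOf_pCore : Cfsg.pCore 2 ↥(nOf S) = ⊥ := by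
  haveI := nOf_normal S
  exact CfsgLib.PCore.pCore_eq_bot_of_normal _ h.hO

theorem not_componentType (X : Subgroup G) : ¬ Cfsg.IsComponentType ↥X := by
  rintro ⟨t, ht, K, -, hperf, hsimp⟩
  haveI := h.solv_sub X t ht
  haveI : Group.IsSolvable (↥(centralizer ({t} : Set X)) ⧸
      Cfsg.oddCore ↥(centralizer ({t} : Set X))) :=
    Group.isSolvable_of_surjective (QuotientGroup.mk'_surjective _)
  haveI : Group.IsSolvable K := Group.isSolvable_of_isSolvable_injective K.subtype_injective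
  haveI := hsimp.toNontrivial
  haveI : Nontrivial K := (QuotientGroup.mk'_surjective (center K)).nontrivial
  exact Group.IsSolvable.commutator_lt_top_of_nontrivial K |>.ne hperf.commutator_eq_top

/-- A central four-group connects. -/
theorem fourConnected (h3 : 2 < Nat.card (zOf (S : Subgroup G))) (T : Sylow 2 ↥(nOf S))
    (hT : (T : Subgroup ↥(nOf S)) = (S : Subgroup G).subgroupOf (nOf S)) :
    Cfsg.IsFourConnected ↥(T : Subgroup ↥(nOf S)) := by
  haveI : Fact (Nat.Prime 2) := ⟨Nat.prime_two⟩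
  obtain ⟨k, hk⟩ := IsPGroup.iff_card.1 (S.2.to_le
    (show zOf (S : Subgroup G) ≤ S from fun x hx => (mem_zOf.1 hx).1))
  have hk2 : 2 ≤ k := by
    rcases k with _ | _ | k
    · simp [hk] at h3
    · simp [hk] at h3
    · omega
  obtain ⟨E, hE⟩ := Sylow.exists_subgroup_card_pow_prime (G := ↥(zOf (S : Subgroup G))) 2 (n := 2)
    (hk ▸ pow_dvd_pow 2 hk2)
  set E' := E.map (zOf (S : Subgroup G)).subtype
  have hE'Z : E' ≤ zOf (S : Subgroup G) := map_subtype_le _
  have hEc : Nat.card E' = 4 := by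
    rw [← Nat.card_congr (equivMapOfInjective _ _ (subtype_injective _)).toEquiv, hE]; rfl
  have hE'N : E' ≤ nOf S := hE'Z.trans le_sup_right
  set U := (E'.subgroupOf (nOf S)).subgroupOf (T : Subgroup ↥(nOf S))
  have hle : E'.subgroupOf (nOf S) ≤ (T : Subgroup ↥(nOf S)) := fun x hx => by
    rw [hT]; exact (mem_zOf.1 (hE'Z hx)).1
  have hU : IsKleinFour U := CfsgLib.CIT.four_of_card (by
      rw [Nat.card_congr (subgroupOfEquivOfLe hle).toEquiv,
        Nat.card_congr (subgroupOfEquivOfLe hE'N).toEquiv, hEc]) fun v hv => by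
    apply Subtype.ext; apply Subtype.ext
    have := (mem_zOf.1 (hE'Z hv)).2.1
    simpa [pow_two] using this
  have hcen : ∀ u ∈ U, ∀ b : ↥(T : Subgroup ↥(nOf S)), u * b = b * u := fun u hu b => by
    apply Subtype.ext; apply Subtype.ext
    exact ((mem_zOf.1 (hE'Z hu)).2.2 _
      ((SetLike.ext_iff.1 hT _).1 b.2 : ((b : ↥(nOf S)) : G) ∈ (S : Subgroup G))).symm
  intro A B hA hB
  refine Relation.ReflTransGen.head ⟨hA, hU, fun a _ u hu => (hcen u hu a).symm⟩
    (Relation.ReflTransGen.single ⟨hU, hB, fun u hu b _ => hcen u hu b⟩)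

theorem exists_sylow_nOf :
    ∃ T : Sylow 2 ↥(nOf S), (T : Subgroup ↥(nOf S)) = (S : Subgroup G).subgroupOf (nOf S) := by
  haveI : Fact (Nat.Prime 2) := ⟨Nat.prime_two⟩
  haveI := nOf_normal S
  obtain ⟨T, hT⟩ := CfsgLib.Fusion.exists_sylow_inf (S := S) (H := nOf S)
  exact ⟨T, by rw [hT, inf_subgroupOf_right]⟩

theorem nOf_eq (h2 : Nat.card (zOf (S : Subgroup G)) ≤ 2) : nOf S = Cfsg.pResidual 2 G := by
  obtain ⟨z, hzZ, hzH, hz⟩ := h.exists_z
  have : zpowers z = zOf (S : Subgroup G) :=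
    Subgroup.eq_of_le_of_card_ge (zpowers_le.2 hzZ) (by rw [Nat.card_zpowers, hz]; exact h2)
  rw [nOf, sup_eq_left, ← this]
  exact zpowers_le.2 hzH

/-- Characteristic 2 type of `H Z` at 2-rank at least 3. -/
theorem charTwo_of_rank (h3 : ¬ Cfsg.PRankLE 2 2 ↥(nOf S)) :
    Cfsg.IsCharacteristicTwoType ↥(nOf S) := by
  by_cases hz : 2 < Nat.card (zOf (S : Subgroup G))
  · obtain ⟨T, hT⟩ := h.exists_sylow_nOf
    exact Cfsg.Agent.S0504.result h3 h.nOf_core (h.not_componentType _) T (h.fourConnected hz T hT)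
  · have e := h.nOf_eq (not_lt.1 hz)
    rw [e] at h3 ⊢
    exact ((Cfsg.Agent.S1296.result h.resid_even (fun M _ => h.resid_idx M) h.resid_core).resolve_left
      h3).resolve_left (h.not_componentType _)

end ZC

end CfsgLib.ZNType
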